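import Mathlib
import Groth.Prelude.Def_WeakSerre

/-!
Dévissage for the derived adjunction of an exact functor on objects with cohomology in weak Serre
subcategories.
-/

universe w w' v v' u u'

open CategoryTheory Limits Pretriangulated DerivedCategory

namespace Groth.Agent.DerAdj

/-! ### homology and truncation -/

section One

variable {A : Type u} [Category.{v} A] [Abelian A] [HasDerivedCategory.{w} A]

local notation "H" => DerivedCategory.homologyFunctor A
local notation "tA" => (DerivedCategory.TStructure.t : Triangulated.TStructure (DerivedCategory A))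

theorem isIso_mor₁ {T : Triangle (DerivedCategory A)} (hT : T ∈ distTriang _) (i : ℤ)
    (h₀ : IsZero ((H (i - 1)).obj T.obj₃)) (h₁ : IsZero ((H i).obj T.obj₃)) : IsIso ((H i).map T.mor₁) := by
  haveI : Mono ((H i).map T.mor₁) :=
    (HomologySequence.mono_homologyMap_mor₁_iff T hT (i - 1) i (by omega)).2 (h₀.eq_of_src _ _)
  haveI : Epi ((H i).map T.mor₁) :=
    (HomologySequence.epi_homologyMap_mor₁_iff T hT i).2 (h₁.eq_of_tgt _ _)
  exact isIso_of_mono_of_epi _

theorem isIso_mor₂ {T : Triangle (DerivedCategory A)} (hT : T ∈ distTriang _) (i : ℤ)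
    (h₀ : IsZero ((H i).obj T.obj₁)) (h₁ : IsZero ((H (i + 1)).obj T.obj₁)) : IsIso ((H i).map T.mor₂) := by
  haveI : Mono ((H i).map T.mor₂) :=
    (HomologySequence.mono_homologyMap_mor₂_iff T hT i).2 (h₀.eq_of_src _ _)
  haveI : Epi ((H i).map T.mor₂) :=
    (HomologySequence.epi_homologyMap_mor₂_iff T hT i (i + 1) rfl).2 (h₁.eq_of_tgt _ _)
  exact isIso_of_mono_of_epi _

/-- every object has a canonical triangle `X_{<b} → X → X_{≥b}` -/
theorem exists_truncTriangle (X : DerivedCategory A) (b : ℤ) :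
    ∃ T ∈ distTriang (DerivedCategory A), T.obj₂ = X ∧ T.obj₁.IsLE (b - 1) ∧ T.obj₃.IsGE b :=
  ⟨((tA).triangleLTGE b).obj X, (tA).triangleLTGE_distinguished b X, rfl, inferInstance, inferInstance⟩

variable (P : ObjectProperty A) [WSerre.IsWeakSerre P]

theorem cohIn_of_iso {X Y : DerivedCategory A} (e : X ≅ Y) (h : WSerre.cohIn P X) : WSerre.cohIn P Y :=
  fun i => P.prop_of_iso ((H i).mapIso e) (h i)

theorem prop_of_isZero {M : A} (h : IsZero M) : P M :=
  P.prop_of_iso (h.iso (P.exists_prop_of_containsZero.choose_spec.1)).symm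
    P.exists_prop_of_containsZero.choose_spec.2

/-- the middle of an exact sequence `a → b → c → d → e` is in a weak Serre class if the other four are -/
theorem prop_middle {a b c d e : A} (f : a ⟶ b) (g : b ⟶ c) (k : c ⟶ d) (l : d ⟶ e)
    (h₁ : f ≫ g = 0) (h₂ : g ≫ k = 0) (h₃ : k ≫ l = 0)
    (e₁ : (ShortComplex.mk f g h₁).Exact) (e₂ : (ShortComplex.mk g k h₂).Exact)
    (e₃ : (ShortComplex.mk k l h₃).Exact) (ha : P a) (hb : P b) (hd : P d) (he : P e) : P c := by
  let S := ShortComplex.mk (cokernel.desc f g h₁) (kernel.lift l k h₃) (by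
    rw [← cancel_mono (kernel.ι l), ← cancel_epi (cokernel.π f)]; simp [h₂])
  haveI : Mono S.f := e₁.mono_cokernelDesc
  haveI : Epi S.g := e₃.epi_kernelLift
  have hS : S.ShortExact :=
    { exact := by
        rw [ShortComplex.exact_iff_exact_up_to_refinements]
        intro Z z hz
        obtain ⟨Z', π, hπ, y, hy⟩ := (ShortComplex.exact_iff_exact_up_to_refinements _).1 e₂ z (by
          show z ≫ k = 0
          rw [← kernel.lift_ι l k h₃]; exact (reassoc_of% hz) _ |>.trans zero_comp)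
        exact ⟨Z', π, hπ, y ≫ cokernel.π f, by rw [hy]; simp [S]⟩ }
  exact P.prop_X₂_of_shortExact hS
    (P.prop_of_isColimit_cokernelCofork (colimit.isColimit _) ha hb)
    (P.prop_of_isLimit_kernelFork (limit.isLimit _) hd he)

theorem cohIn_obj₂ {T : Triangle (DerivedCategory A)} (hT : T ∈ distTriang _)
    (h₁ : WSerre.cohIn P T.obj₁) (h₃ : WSerre.cohIn P T.obj₃) : WSerre.cohIn P T.obj₂ := fun i =>
  prop_middle P _ _ _ _ _ _ _ (HomologySequence.exact₁ T hT (i - 1) i (by omega))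
    (HomologySequence.exact₂ T hT i) (HomologySequence.exact₃ T hT i (i + 1) rfl)
    (h₃ (i - 1)) (h₁ i) (h₃ i) (h₁ (i + 1))

theorem cohIn_of_truncTriangle {T : Triangle (DerivedCategory A)} (hT : T ∈ distTriang _) (b : ℤ)
    (h₁ : T.obj₁.IsLE (b - 1)) (h₃ : T.obj₃.IsGE b) (h : WSerre.cohIn P T.obj₂) :
    WSerre.cohIn P T.obj₁ ∧ WSerre.cohIn P T.obj₃ := by
  refine ⟨fun i => ?_, fun i => ?_⟩
  · by_cases hi : i ≤ b - 1
    · haveI := isIso_mor₁ hT i (isZero_of_isGE T.obj₃ b (i - 1) (by omega)) (isZero_of_isGE T.obj₃ b i (by omega))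
      exact P.prop_of_iso (asIso ((H i).map T.mor₁)).symm (h i)
    · exact prop_of_isZero P (isZero_of_isLE T.obj₁ (b - 1) i (by omega))
  · by_cases hi : b ≤ i
    · haveI := isIso_mor₂ hT i (isZero_of_isLE T.obj₁ (b - 1) i (by omega)) (isZero_of_isLE T.obj₁ (b - 1) (i + 1) (by omega))
      exact P.prop_of_iso (asIso ((H i).map T.mor₂)) (h i)
    · exact prop_of_isZero P (isZero_of_isGE T.obj₃ b i (by omega))

theorem isGE_obj₁ {T : Triangle (DerivedCategory A)} (hT : T ∈ distTriang _) (a b : ℤ)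
    (h₁ : T.obj₁.IsLE (b - 1)) (h₃ : T.obj₃.IsGE b) (h : T.obj₂.IsGE a) : T.obj₁.IsGE a := by
  rw [isGE_iff]
  intro i hi
  by_cases hib : i ≤ b - 1
  · haveI := isIso_mor₁ hT i (isZero_of_isGE T.obj₃ b (i - 1) (by omega)) (isZero_of_isGE T.obj₃ b i (by omega))
    exact (isZero_of_isGE T.obj₂ a i hi).of_iso (asIso ((H i).map T.mor₁))
  · exact isZero_of_isLE T.obj₁ (b - 1) i (by omega)

theorem isLE_obj₃ {T : Triangle (DerivedCategory A)} (hT : T ∈ distTriang _) (c b : ℤ)
    (h₁ : T.obj₁.IsLE (b - 1)) (h₃ : T.obj₃.IsGE b) (h : T.obj₂.IsLE c) : T.obj₃.IsLE c := by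
  rw [isLE_iff]
  intro i hi
  by_cases hib : b ≤ i
  · haveI := isIso_mor₂ hT i (isZero_of_isLE T.obj₁ (b - 1) i (by omega)) (isZero_of_isLE T.obj₁ (b - 1) (i + 1) (by omega))
    exact (isZero_of_isLE T.obj₂ c i hi).of_iso (asIso ((H i).map T.mor₂)).symm
  · exact isZero_of_isGE T.obj₃ b i (by omega)

/-- dévissage: properties closed under extensions and holding for single objects hold on bounded objects -/
theorem devissage (Φ : DerivedCategory A → Prop) (hiso : ∀ {X Y : DerivedCategory A}, (X ≅ Y) → Φ X → Φ Y)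
    (hext : ∀ T ∈ distTriang (DerivedCategory A), Φ T.obj₁ → Φ T.obj₃ → Φ T.obj₂)
    (hsingle : ∀ (n : ℤ) (M : A), P M → Φ ((singleFunctor A n).obj M))
    (X : DerivedCategory A) (a c : ℤ) (ha : X.IsGE a) (hc : X.IsLE c) (hX : WSerre.cohIn P X) : Φ X := by
  have hone : ∀ (Y : DerivedCategory A) (n : ℤ), Y.IsGE n → Y.IsLE n → WSerre.cohIn P Y → Φ Y := by
    intro Y n hn hn' hY
    obtain ⟨M, ⟨e⟩⟩ := exists_iso_singleFunctor_obj_of_isGE_of_isLE Y n
    exact hiso e.symm (hsingle n M (P.prop_of_iso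
      (((H n).mapIso e) ≪≫ (singleFunctorCompHomologyFunctorIso A n).app M) (hY n)))
  have hz : ∀ (Y : DerivedCategory A), IsZero Y → Φ Y := fun Y h0 => by
    refine hone Y 0 ?_ ?_ (fun i => prop_of_isZero P ((H i).map_isZero h0)) <;>
      first
      | exact (isGE_iff Y 0).2 fun i _ => (H i).map_isZero h0
      | exact (isLE_iff Y 0).2 fun i _ => (H i).map_isZero h0
  obtain ⟨k, hk⟩ : ∃ k : ℕ, c < a + k := ⟨(c - a + 1).toNat, by omega⟩
  induction k generalizing X c with
  | zero =>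
    refine hz X (((IsZero.iff_id_eq_zero X).2 ?_))
    exact (tA).zero_of_isLE_of_isGE _ c a (by simpa using hk) hc ha
  | succ k ih =>
    obtain ⟨T, hT, rfl, h₁, h₃⟩ := exists_truncTriangle X (a + k)
    obtain ⟨hX₁, hX₃⟩ := cohIn_of_truncTriangle P hT _ h₁ h₃ hX
    refine hext T hT (ih T.obj₁ _ (isGE_obj₁ hT a _ h₁ h₃ ha) h₁ hX₁ (by omega)) (hone _ (a + k) h₃ ?_ hX₃)
    haveI := isLE_obj₃ hT c _ h₁ h₃ hc
    exact (tA).isLE_of_le T.obj₃ c (a + k) (by omega)

end One

/-! ### exact functors -/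

variable {A : Type u} [Category.{v} A] [Abelian A] [HasDerivedCategory.{w} A]
  {B : Type u'} [Category.{v'} B] [Abelian B] [HasDerivedCategory.{w'} B]
  (F : A ⥤ B) [F.Additive] [PreservesFiniteLimits F] [PreservesFiniteColimits F]

/-- exact functors commute with homology -/
noncomputable def homologyMapIso (X : DerivedCategory A) (i : ℤ) :
    (homologyFunctor B i).obj (F.mapDerivedCategory.obj X) ≅ F.obj ((homologyFunctor A i).obj X) :=
  let K := DerivedCategory.Q.objPreimage X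
  let e := DerivedCategory.Q.objObjPreimageIso X
  (homologyFunctor B i).mapIso (F.mapDerivedCategory.mapIso e.symm ≪≫ F.mapDerivedCategoryFactors.app K) ≪≫
    (homologyFunctorFactors B i).app _ ≪≫ ((K.sc i).mapHomologyIso F) ≪≫
      F.mapIso (((homologyFunctorFactors A i).app K).symm ≪≫ (homologyFunctor A i).mapIso e)

theorem isGE_map {X : DerivedCategory A} (n : ℤ) (h : X.IsGE n) : (F.mapDerivedCategory.obj X).IsGE n :=
  (isGE_iff _ n).2 fun i hi => (F.map_isZero (isZero_of_isGE X n i hi)).of_iso (homologyMapIso F X i)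

theorem isLE_map {X : DerivedCategory A} (n : ℤ) (h : X.IsLE n) : (F.mapDerivedCategory.obj X).IsLE n :=
  (isLE_iff _ n).2 fun i hi => (F.map_isZero (isZero_of_isLE X n i hi)).of_iso (homologyMapIso F X i)

theorem cohIn_map {P : ObjectProperty A} {Q : ObjectProperty B} [WSerre.IsWeakSerre Q]
    (h : ∀ M, P M → Q (F.obj M)) {X : DerivedCategory A} (hX : WSerre.cohIn P X) :
    WSerre.cohIn Q (F.mapDerivedCategory.obj X) := fun i =>
  Q.prop_of_iso (homologyMapIso F X i).symm (h _ (hX i))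

theorem cohInBdd_map {P : ObjectProperty A} {Q : ObjectProperty B} [WSerre.IsWeakSerre Q]
    (h : ∀ M, P M → Q (F.obj M)) {X : DerivedCategory A} (hX : WSerre.cohInBdd P X) :
    WSerre.cohInBdd Q (F.mapDerivedCategory.obj X) :=
  let ⟨hc, ⟨a, ha⟩, ⟨b, hb⟩⟩ := hX
  ⟨cohIn_map F h hc, ⟨a, isGE_map F a ha⟩, ⟨b, isLE_map F b hb⟩⟩

section Adj

variable (R : DerivedCategory B ⥤ DerivedCategory A) (adj : F.mapDerivedCategory ⊣ R)

include adj in
/-- the right adjoint is left t-exact -/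
theorem isGE_rightAdjoint {W : DerivedCategory B} (a : ℤ) (h : W.IsGE a) : (R.obj W).IsGE a := by
  obtain ⟨T, hT, e, h₁, h₃⟩ := exists_truncTriangle (R.obj W) a
  rw [← e, isGE_iff]
  intro i hi
  have h0 : T.mor₁ ≫ eqToHom e = 0 := by
    apply (adj.homEquiv _ _).symm.injective
    rw [TStructure.t.zero_of_isLE_of_isGE ((adj.homEquiv _ _).symm (T.mor₁ ≫ eqToHom e)) (a - 1) a (by omega)
      (isLE_map F _ h₁) h, TStructure.t.zero_of_isLE_of_isGE ((adj.homEquiv T.obj₁ W).symm 0) (a - 1) a (by omega)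
      (isLE_map F _ h₁) h]
  have h0' : T.mor₁ = 0 := by rwa [← cancel_mono (eqToHom e), zero_comp]
  haveI : Mono ((homologyFunctor A i).map T.mor₂) :=
    (HomologySequence.mono_homologyMap_mor₂_iff T hT i).2 (by rw [h0', Functor.map_zero])
  exact IsZero.of_mono ((homologyFunctor A i).map T.mor₂) (isZero_of_isGE T.obj₃ a i hi)

variable (P : ObjectProperty A) [WSerre.IsWeakSerre P] (Q : ObjectProperty B) [WSerre.IsWeakSerre Q]

include adj in
theorem isIso_unit_and_counit (hPQ : ∀ M, P M → Q (F.obj M)) (hess : ∀ N, Q N → ∃ M, P M ∧ Nonempty (F.obj M ≅ N))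
    (hunit : ∀ M, P M → IsIso (adj.unit.app ((singleFunctor A 0).obj M))) :
    (∀ Y, WSerre.cohInPlus P Y → WSerre.cohInPlus Q (F.mapDerivedCategory.obj Y) ∧ IsIso (adj.unit.app Y)) ∧
    (∀ X, WSerre.cohInPlus Q X → WSerre.cohInPlus P (R.obj X) ∧ IsIso (adj.counit.app X)) := by
  let L := F.mapDerivedCategory
  letI := adj.rightAdjointCommShift ℤ
  haveI := adj.commShift_of_leftAdjoint ℤ
  haveI : R.IsTriangulated := adj.isTriangulated_rightAdjoint
  let tri₁ : ∀ T : Triangle (DerivedCategory A), T ⟶ (L ⋙ R).mapTriangle.obj T := fun T =>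
    Triangle.homMk _ _ (adj.unit.app _) (adj.unit.app _) (adj.unit.app _) (adj.unit.naturality _)
      (adj.unit.naturality _) (by
        have h1 := adj.unit.naturality T.mor₃
        have h2 := NatTrans.shift_app_comm adj.unit (1 : ℤ) T.obj₁
        rw [Functor.commShiftIso_id_hom_app] at h2
        change T.mor₃ ≫ (shiftFunctor (DerivedCategory A) (1 : ℤ)).map (adj.unit.app T.obj₁) =
          adj.unit.app T.obj₃ ≫ (L ⋙ R).map T.mor₃ ≫ ((L ⋙ R).commShiftIso (1 : ℤ)).hom.app T.obj₁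
        erw [← reassoc_of% h1, ← h2]
        exact congrArg (T.mor₃ ≫ ·) (Category.id_comp _).symm)
  let tri₂ : ∀ T : Triangle (DerivedCategory B), (R ⋙ L).mapTriangle.obj T ⟶ T := fun T =>
    Triangle.homMk _ _ (adj.counit.app _) (adj.counit.app _) (adj.counit.app _) (adj.counit.naturality _)
      (adj.counit.naturality _) (by
        have h1 := adj.counit.naturality T.mor₃
        have h2 := NatTrans.shift_app_comm adj.counit (1 : ℤ) T.obj₁
        rw [Functor.commShiftIso_id_hom_app] at h2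
        change ((R ⋙ L).map T.mor₃ ≫ ((R ⋙ L).commShiftIso (1 : ℤ)).hom.app T.obj₁) ≫
          (shiftFunctor (DerivedCategory B) (1 : ℤ)).map (adj.counit.app T.obj₁) = adj.counit.app T.obj₃ ≫ T.mor₃
        erw [Category.assoc, h2, Category.comp_id]
        exact h1)
  have ext₁ : ∀ T ∈ distTriang (DerivedCategory A), IsIso (adj.unit.app T.obj₁) → IsIso (adj.unit.app T.obj₃) →
      IsIso (adj.unit.app T.obj₂) := fun T hT h1 h3 =>
    isIso₂_of_isIso₁₃ (tri₁ T) hT ((L ⋙ R).map_distinguished T hT) h1 h3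
  have ext₂ : ∀ T ∈ distTriang (DerivedCategory B), IsIso (adj.counit.app T.obj₁) → IsIso (adj.counit.app T.obj₃) →
      IsIso (adj.counit.app T.obj₂) := fun T hT h1 h3 =>
    isIso₂_of_isIso₁₃ (tri₂ T) ((R ⋙ L).map_distinguished T hT) hT h1 h3
  have iso₁ : ∀ {X Y : DerivedCategory A} (_ : X ≅ Y), IsIso (adj.unit.app X) → IsIso (adj.unit.app Y) :=
    fun {X Y} e h => (NatTrans.isIso_app_iff_of_iso adj.unit e).1 h
  have iso₂ : ∀ {X Y : DerivedCategory B} (_ : X ≅ Y), IsIso (adj.counit.app X) → IsIso (adj.counit.app Y) :=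
    fun {X Y} e h => (NatTrans.isIso_app_iff_of_iso adj.counit e).1 h
  have shift₁ : ∀ (X : DerivedCategory A) (n : ℤ), IsIso (adj.unit.app X) → IsIso (adj.unit.app (X⟦n⟧)) := by
    intro X n h
    have h2 := NatTrans.shift_app_comm adj.unit n X
    rw [Functor.commShiftIso_id_hom_app] at h2
    have h3 : adj.unit.app (X⟦n⟧) = (adj.unit.app X)⟦n⟧' ≫ ((L ⋙ R).commShiftIso n).inv.app X :=
      (Iso.eq_comp_inv (((L ⋙ R).commShiftIso n).app X)).2 (h2.symm.trans (Category.id_comp _))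
    rw [h3]; infer_instance
  let single : ∀ (n : ℤ) (M : A), (singleFunctor A n).obj M ≅ ((singleFunctor A 0).obj M)⟦-n⟧ := fun n M =>
    ((((singleFunctors A).shiftIso (-n) n 0 (by omega)).app M)).symm
  have unit_single : ∀ (n : ℤ) (M : A), P M → IsIso (adj.unit.app ((singleFunctor A n).obj M)) := fun n M hM =>
    iso₁ (single n M).symm (shift₁ _ _ (hunit M hM))
  have unit_bdd : ∀ (X : DerivedCategory A) (a c : ℤ), X.IsGE a → X.IsLE c → WSerre.cohIn P X →
      IsIso (adj.unit.app X) :=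
    devissage P (fun X => IsIso (adj.unit.app X)) (fun e h => iso₁ e h) ext₁ unit_single
  have unit_plus : ∀ Y, WSerre.cohInPlus P Y → IsIso (adj.unit.app Y) := by
    rintro Y ⟨hY, a, ha⟩
    rw [DerivedCategory.isIso_iff]
    intro i
    obtain ⟨T, hT, rfl, h₁, h₃⟩ := exists_truncTriangle Y (i + 2)
    obtain ⟨hY₁, -⟩ := cohIn_of_truncTriangle P hT _ h₁ h₃ hY
    haveI := unit_bdd T.obj₁ a _ (isGE_obj₁ hT a _ h₁ h₃ ha) h₁ hY₁
    haveI := isIso_mor₁ hT i (isZero_of_isGE T.obj₃ (i + 2) (i - 1) (by omega))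
      (isZero_of_isGE T.obj₃ (i + 2) i (by omega))
    have hG : (R.obj (L.obj T.obj₃)).IsGE (i + 2) := isGE_rightAdjoint F R adj _ (isGE_map F _ h₃)
    haveI : IsIso ((homologyFunctor A i).map ((L ⋙ R).map T.mor₁)) :=
      isIso_mor₁ ((L ⋙ R).map_distinguished T hT) i (isZero_of_isGE (R.obj (L.obj T.obj₃)) (i + 2) (i - 1) (by omega))
        (isZero_of_isGE (R.obj (L.obj T.obj₃)) (i + 2) i (by omega))
    have hn := congrArg (homologyFunctor A i).map (adj.unit.naturality T.mor₁)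
    rw [Functor.map_comp, Functor.map_comp, Functor.id_map] at hn
    exact IsIso.of_isIso_fac_left hn
  have good : ∀ (X : DerivedCategory B) (a c : ℤ), X.IsGE a → X.IsLE c → WSerre.cohIn Q X →
      WSerre.cohIn P (R.obj X) ∧ IsIso (adj.counit.app X) := by
    refine devissage Q (fun X => WSerre.cohIn P (R.obj X) ∧ IsIso (adj.counit.app X))
      (fun e h => ⟨cohIn_of_iso P (R.mapIso e) h.1, iso₂ e h.2⟩)
      (fun T hT h h' => ⟨cohIn_obj₂ P (R.map_distinguished T hT) h.1 h'.1, ext₂ T hT h.2 h'.2⟩) fun n N hN => ?_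
    obtain ⟨M, hM, ⟨e⟩⟩ := hess N hN
    let Y := (singleFunctor A n).obj M
    have hY : WSerre.cohIn P Y := fun i => by
      by_cases hi : i = n
      · subst hi
        exact P.prop_of_iso ((singleFunctorCompHomologyFunctorIso A i).app M).symm hM
      · rcases lt_or_gt_of_ne hi with h | h
        · exact prop_of_isZero P (isZero_of_isGE _ n i h)
        · exact prop_of_isZero P (isZero_of_isLE _ n i h)
    haveI := unit_single n M hM
    let e' : L.obj Y ≅ (singleFunctor B n).obj N :=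
      (F.mapDerivedCategorySingleFunctor n).app M ≪≫ (singleFunctor B n).mapIso e
    refine ⟨cohIn_of_iso P (asIso (adj.unit.app Y) ≪≫ R.mapIso e') hY, iso₂ e' ?_⟩
    have ht := adj.left_triangle_components Y
    exact IsIso.of_isIso_fac_left ht
  refine ⟨fun Y hY => ⟨⟨cohIn_map F hPQ hY.1, ?_⟩, unit_plus Y hY⟩, fun X hX => ?_⟩
  · obtain ⟨a, ha⟩ := hY.2
    exact ⟨a, isGE_map F a ha⟩
  obtain ⟨hX, a, ha⟩ := hX
  have key : ∀ i, P ((homologyFunctor A i).obj (R.obj X)) ∧ IsIso ((homologyFunctor B i).map (adj.counit.app X)) := by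
    intro i
    obtain ⟨T, hT, rfl, h₁, h₃⟩ := exists_truncTriangle X (i + 2)
    obtain ⟨hX₁, -⟩ := cohIn_of_truncTriangle Q hT _ h₁ h₃ hX
    obtain ⟨g₁, g₂⟩ := good T.obj₁ a _ (isGE_obj₁ hT a _ h₁ h₃ ha) h₁ hX₁
    haveI := g₂
    haveI := isIso_mor₁ hT i (isZero_of_isGE T.obj₃ (i + 2) (i - 1) (by omega))
      (isZero_of_isGE T.obj₃ (i + 2) i (by omega))
    have hG : (R.obj T.obj₃).IsGE (i + 2) := isGE_rightAdjoint F R adj _ h₃
    have hG' : (L.obj (R.obj T.obj₃)).IsGE (i + 2) := isGE_map F _ hG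
    haveI : IsIso ((homologyFunctor A i).map (R.map T.mor₁)) :=
      isIso_mor₁ (R.map_distinguished T hT) i (isZero_of_isGE (R.obj T.obj₃) (i + 2) (i - 1) (by omega))
        (isZero_of_isGE (R.obj T.obj₃) (i + 2) i (by omega))
    haveI : IsIso ((homologyFunctor B i).map ((R ⋙ L).map T.mor₁)) :=
      isIso_mor₁ ((R ⋙ L).map_distinguished T hT) i (isZero_of_isGE (L.obj (R.obj T.obj₃)) (i + 2) (i - 1) (by omega))
        (isZero_of_isGE (L.obj (R.obj T.obj₃)) (i + 2) i (by omega))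
    refine ⟨P.prop_of_iso (asIso ((homologyFunctor A i).map (R.map T.mor₁))) (g₁ i), ?_⟩
    have hn := congrArg (homologyFunctor B i).map (adj.counit.naturality T.mor₁)
    rw [Functor.map_comp, Functor.map_comp, Functor.id_map] at hn
    exact IsIso.of_isIso_fac_left hn
  exact ⟨⟨fun i => (key i).1, a, isGE_rightAdjoint F R adj a ha⟩, (DerivedCategory.isIso_iff _ _).2 fun i => (key i).2⟩

end Adj

end Groth.Agent.DerAdj
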