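import Groth.Agent.DerAdj.Basic

/-!
Equivalences of bounded derived categories with cohomology in weak Serre subcategories.
-/

universe w w' v v' u u'

open CategoryTheory Limits Pretriangulated DerivedCategory

namespace Groth.Agent.DerAdj

section Hom

variable {C : Type*} [Category C] [Preadditive C] [HasZeroObject C] [HasShift C ℤ]
  [∀ n : ℤ, (shiftFunctor C n).Additive] [Pretriangulated C]
  {D : Type*} [Category D] [Preadditive D] [HasZeroObject D] [HasShift D ℤ]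
  [∀ n : ℤ, (shiftFunctor D n).Additive] [Pretriangulated D]
  (L : C ⥤ D) [L.CommShift ℤ] [L.IsTriangulated]

/-- `L` is bijective on `Hom(Z, Y)` -/
def FF (Z Y : C) : Prop := Function.Bijective (fun φ : Z ⟶ Y => L.map φ)

omit [Preadditive C] [HasZeroObject C] [HasShift C ℤ] [∀ n : ℤ, (shiftFunctor C n).Additive]
  [Pretriangulated C] [Preadditive D] [HasZeroObject D] [HasShift D ℤ]
  [∀ n : ℤ, (shiftFunctor D n).Additive] [Pretriangulated D] [L.CommShift ℤ] [L.IsTriangulated] in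
theorem FF.of_iso {Z Z' Y Y' : C} (e : Z ≅ Z') (e' : Y ≅ Y') (h : FF L Z Y) : FF L Z' Y' := by
  refine ⟨fun φ ψ hφ => ?_, fun φ => ?_⟩
  · have := @h.1 (e.hom ≫ φ ≫ e'.inv) (e.hom ≫ ψ ≫ e'.inv) (by
      dsimp only at hφ ⊢
      rw [L.map_comp, L.map_comp, L.map_comp, L.map_comp, hφ])
    simpa using this
  · obtain ⟨ψ, hψ⟩ := h.2 (L.map e.hom ≫ φ ≫ L.map e'.inv)
    refine ⟨e.inv ≫ ψ ≫ e'.hom, ?_⟩
    dsimp only at hψ ⊢
    rw [L.map_comp, L.map_comp, hψ]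
    simp [← L.map_comp, ← L.map_comp_assoc]

omit [HasZeroObject C] [∀ n : ℤ, (shiftFunctor C n).Additive] [Pretriangulated C] [HasZeroObject D]
  [∀ n : ℤ, (shiftFunctor D n).Additive] [Pretriangulated D] [L.IsTriangulated] [Preadditive C] [Preadditive D] in
theorem FF.shift {Z Y : C} (n : ℤ) (h : FF L Z Y) : FF L (Z⟦n⟧) (Y⟦n⟧) := by
  have key : ∀ φ : Z ⟶ Y, L.map (φ⟦n⟧') =
      (L.commShiftIso n).hom.app Z ≫ (L.map φ)⟦n⟧' ≫ (L.commShiftIso n).inv.app Y := fun φ => by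
    rw [← Category.assoc, ← dsimp% (L.commShiftIso n).hom.naturality φ, Category.assoc,
      Iso.hom_inv_id_app]
    exact (Category.comp_id _).symm
  refine ⟨fun φ ψ hφ => ?_, fun φ => ?_⟩
  · obtain ⟨φ, rfl⟩ := (shiftFunctor C n).map_surjective φ
    obtain ⟨ψ, rfl⟩ := (shiftFunctor C n).map_surjective ψ
    dsimp only at hφ
    rw [key, key, cancel_epi, cancel_mono] at hφ
    exact congrArg _ (h.1 ((shiftFunctor D n).map_injective hφ))
  · obtain ⟨θ, hθ⟩ := (shiftFunctor D n).map_surjective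
      ((L.commShiftIso n).inv.app Z ≫ φ ≫ (L.commShiftIso n).hom.app Y)
    obtain ⟨ψ, hψ⟩ := h.2 θ
    dsimp only at hψ
    refine ⟨ψ⟦n⟧', ?_⟩
    dsimp only
    rw [key, hψ, hθ]
    simp

theorem FF.ext_right {Z : C} (T : Triangle C) (hT : T ∈ distTriang C) (h₁ : FF L Z T.obj₁)
    (h₃ : FF L Z T.obj₃) (h₀ : FF L Z (T.obj₃⟦(-1 : ℤ)⟧)) (h₄ : FF L Z (T.obj₁⟦(1 : ℤ)⟧)) :
    FF L Z T.obj₂ := by
  have hL := L.map_distinguished T hT
  have hinv := inv_rot_of_distTriang _ hT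
  refine ⟨fun φ ψ hφ => sub_eq_zero.1 ?_, fun φ => ?_⟩
  · have h0 : L.map (φ - ψ) = 0 := by rw [L.map_sub, sub_eq_zero]; exact hφ
    obtain ⟨b, hb⟩ := T.coyoneda_exact₂ hT (φ - ψ) (h₃.1 (by dsimp only; rw [L.map_comp, h0, zero_comp, L.map_zero]))
    obtain ⟨c', hc'⟩ := Triangle.coyoneda_exact₂ _ (L.map_distinguished _ hinv) (L.map b) (by
      show L.map b ≫ L.map T.mor₁ = 0
      rw [← L.map_comp, ← hb, h0])
    obtain ⟨c, hc⟩ := h₀.2 c'
    let d : T.obj₃⟦(-1 : ℤ)⟧ ⟶ T.obj₁ := T.invRotate.mor₁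
    have hd : d ≫ T.mor₁ = 0 := comp_distTriang_mor_zero₁₂ _ hinv
    have : b = c ≫ d := h₁.1 (by
      dsimp only at hc ⊢
      rw [L.map_comp, hc]; exact hc')
    rw [hb, this, Category.assoc, hd, comp_zero]
  · obtain ⟨c, hc⟩ := h₃.2 (φ ≫ L.map T.mor₂)
    dsimp only at hc
    have h0 : c ≫ T.mor₃ = 0 := h₄.1 (by
      dsimp only
      rw [L.map_comp, hc, Category.assoc, ← L.map_comp, comp_distTriang_mor_zero₂₃ _ hT]
      simp)
    obtain ⟨a, ha⟩ := T.coyoneda_exact₃ hT c h0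
    obtain ⟨b', hb'⟩ := Triangle.coyoneda_exact₂ _ hL (φ - L.map a) (by
      show (φ - L.map a) ≫ L.map T.mor₂ = 0
      rw [Preadditive.sub_comp, ← hc, ← L.map_comp, ← ha, sub_self])
    obtain ⟨b, hb⟩ := h₁.2 b'
    refine ⟨a + b ≫ T.mor₁, ?_⟩
    dsimp only at hb ⊢
    rw [L.map_add, L.map_comp, hb]
    exact (add_comm _ _).trans (sub_add_cancel φ (L.map a) ▸ (congrArg (· + L.map a) hb'.symm))

theorem FF.ext_left {Y : C} (T : Triangle C) (hT : T ∈ distTriang C) (h₁ : FF L T.obj₁ Y)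
    (h₃ : FF L T.obj₃ Y) (h₀ : FF L (T.obj₃⟦(-1 : ℤ)⟧) Y) (h₄ : FF L (T.obj₁⟦(1 : ℤ)⟧) Y) :
    FF L T.obj₂ Y := by
  have hL := L.map_distinguished T hT
  have hrot := rot_of_distTriang _ hT
  have hinv := inv_rot_of_distTriang _ hT
  refine ⟨fun φ ψ hφ => sub_eq_zero.1 ?_, fun φ => ?_⟩
  · have h0 : L.map (φ - ψ) = 0 := by rw [L.map_sub, sub_eq_zero]; exact hφ
    obtain ⟨b, hb⟩ := T.yoneda_exact₂ hT (φ - ψ) (h₁.1 (by dsimp only; rw [L.map_comp, h0, comp_zero, L.map_zero]))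
    obtain ⟨c', hc'⟩ := Triangle.yoneda_exact₂ _ (L.map_distinguished _ hrot) (L.map b) (by
      show L.map T.mor₂ ≫ L.map b = 0
      rw [← L.map_comp, ← hb, h0])
    obtain ⟨c, hc⟩ := h₄.2 c'
    have : b = T.mor₃ ≫ c := h₃.1 (by
      dsimp only at hc ⊢
      rw [L.map_comp, hc]; exact hc')
    rw [hb, this, comp_distTriang_mor_zero₂₃_assoc _ hT, zero_comp]
  · obtain ⟨c, hc⟩ := h₁.2 (L.map T.mor₁ ≫ φ)
    dsimp only at hc
    let d : T.obj₃⟦(-1 : ℤ)⟧ ⟶ T.obj₁ := T.invRotate.mor₁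
    have hd : d ≫ T.mor₁ = 0 := comp_distTriang_mor_zero₁₂ _ hinv
    have h0 : d ≫ c = 0 := h₀.1 (by
      show L.map (d ≫ c) = L.map 0
      rw [L.map_comp, hc, ← Category.assoc, ← L.map_comp, hd]
      simp)
    obtain ⟨a, ha⟩ : ∃ a : T.obj₂ ⟶ Y, c = T.mor₁ ≫ a := Triangle.yoneda_exact₂ _ hinv c h0
    obtain ⟨b', hb'⟩ := Triangle.yoneda_exact₂ _ hL (φ - L.map a) (by
      show L.map T.mor₁ ≫ (φ - L.map a) = 0
      rw [Preadditive.comp_sub, ← hc, ← L.map_comp, ← ha, sub_self])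
    obtain ⟨b, hb⟩ := h₃.2 b'
    refine ⟨a + T.mor₂ ≫ b, ?_⟩
    dsimp only at hb ⊢
    rw [L.map_add, L.map_comp, hb]
    exact (add_comm _ _).trans (sub_add_cancel φ (L.map a) ▸ (congrArg (· + L.map a) hb'.symm))

end Hom

variable {A : Type u} [Category.{v} A] [Abelian A] [HasDerivedCategory.{w} A]
  {B : Type u'} [Category.{v'} B] [Abelian B] [HasDerivedCategory.{w'} B]

theorem cohIn_shift (P : ObjectProperty A) [WSerre.IsWeakSerre P] {X : DerivedCategory A} (n : ℤ)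
    (h : WSerre.cohIn P X) : WSerre.cohIn P (X⟦n⟧) := fun i =>
  P.prop_of_iso (((homologyFunctor A 0).shiftIso n i (n + i) rfl).app X).symm (h (n + i))

theorem cohIn_single (P : ObjectProperty A) [WSerre.IsWeakSerre P] {M : A} (hM : P M) (n : ℤ) :
    WSerre.cohIn P ((singleFunctor A n).obj M) := fun i => by
  by_cases hi : i = n
  · subst hi
    exact P.prop_of_iso ((singleFunctorCompHomologyFunctorIso A i).app M).symm hM
  · rcases lt_or_gt_of_ne hi with h | h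
    · exact prop_of_isZero P (isZero_of_isGE _ n i h)
    · exact prop_of_isZero P (isZero_of_isLE _ n i h)

theorem cohInBdd_shift (P : ObjectProperty A) [WSerre.IsWeakSerre P] {X : DerivedCategory A} (n : ℤ)
    (h : WSerre.cohInBdd P X) : WSerre.cohInBdd P (X⟦n⟧) :=
  ⟨cohIn_shift P n h.1, (TStructure.t : Triangulated.TStructure (DerivedCategory A)).bounded.le_shift n _ h.2⟩

theorem comm_aux {D : Type*} [Category D] {S : D ⥤ D} {U V Z W : D} (e : U ≅ V) (c : W ≅ S.obj U)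
    (t : Z ⟶ S.obj V) (d : Z ⟶ W) (h : d = t ≫ S.map e.inv ≫ c.inv) : (d ≫ c.hom) ≫ S.map e.hom = t := by
  subst h
  simp [← S.map_comp]

variable (F : A ⥤ B) [F.Additive] [PreservesFiniteLimits F] [PreservesFiniteColimits F]
  (P : ObjectProperty A) [WSerre.IsWeakSerre P]

/-- full faithfulness on bounded objects -/
theorem FF_bdd (h2 : ∀ (M M' : A), P M → P M' → ∀ n : ℤ,
    FF F.mapDerivedCategory ((singleFunctor A 0).obj M) (((singleFunctor A 0).obj M')⟦n⟧))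
    {K K' : DerivedCategory A} (hK : WSerre.cohInBdd P K) (hK' : WSerre.cohInBdd P K') :
    FF F.mapDerivedCategory K K' := by
  let L := F.mapDerivedCategory
  let single : ∀ (n : ℤ) (M : A), (singleFunctor A n).obj M ≅ ((singleFunctor A 0).obj M)⟦-n⟧ := fun n M =>
    ((((singleFunctors A).shiftIso (-n) n 0 (by omega)).app M)).symm
  have add : ∀ (X : DerivedCategory A) (a b c : ℤ), a + b = c → (X⟦a⟧⟦b⟧ ≅ X⟦c⟧) := fun X a b c h =>
    ((shiftFunctorAdd' (DerivedCategory A) a b c h).app X).symm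
  have step : ∀ (M : A), P M → ∀ Y : DerivedCategory A, WSerre.cohInBdd P Y → ∀ n : ℤ,
      FF L ((singleFunctor A 0).obj M) (Y⟦n⟧) := by
    rintro M hM Y ⟨hY, ⟨a, ha⟩, ⟨c, hc⟩⟩
    refine devissage P (fun Y => ∀ n : ℤ, FF L ((singleFunctor A 0).obj M) (Y⟦n⟧))
      (fun e h n => (h n).of_iso L (Iso.refl _) ((shiftFunctor _ n).mapIso e))
      (fun T hT h₁ h₃ n => ?_) (fun m M' hM' n => ?_) Y a c ha hc hY
    · exact FF.ext_right L _ (Triangle.shift_distinguished T hT n) (h₁ n) (h₃ n)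
        ((h₃ (n + (-1))).of_iso L (Iso.refl _) (add _ _ _ _ rfl).symm)
        ((h₁ (n + 1)).of_iso L (Iso.refl _) (add _ _ _ _ rfl).symm)
    · exact (h2 M M' hM hM' (-m + n)).of_iso L (Iso.refl _)
        ((add _ _ _ _ rfl).symm ≪≫ (shiftFunctor _ n).mapIso (single m M').symm)
  obtain ⟨hK, ⟨a, ha⟩, ⟨c, hc⟩⟩ := hK
  have := devissage P (fun Z => ∀ (n : ℤ) (Y : DerivedCategory A), WSerre.cohInBdd P Y → FF L (Z⟦n⟧) Y)
    (fun e h n Y hY => (h n Y hY).of_iso L ((shiftFunctor _ n).mapIso e) (Iso.refl _))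
    (fun T hT h₁ h₃ n Y hY => FF.ext_left L _ (Triangle.shift_distinguished T hT n) (h₁ n Y hY) (h₃ n Y hY)
      ((h₃ (n + (-1)) Y hY).of_iso L (add _ _ _ _ rfl).symm (Iso.refl _))
      ((h₁ (n + 1) Y hY).of_iso L (add _ _ _ _ rfl).symm (Iso.refl _)))
    (fun m M hM n Y hY => (((step M hM Y hY (m - n)).shift L (n - m))).of_iso L
      ((add _ (-m) n (n - m) (by omega)).symm ≪≫ (shiftFunctor _ n).mapIso (single m M).symm)
      (add _ (m - n) (n - m) 0 (by omega) ≪≫ (shiftFunctorZero _ ℤ).app Y))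
    K a c ha hc hK 0 K' hK'
  exact this.of_iso L ((shiftFunctorZero _ ℤ).app K) (Iso.refl _)

/-- essential surjectivity on bounded objects -/
theorem exists_bdd_preimage (h2 : ∀ (M M' : A), P M → P M' → ∀ n : ℤ,
    FF F.mapDerivedCategory ((singleFunctor A 0).obj M) (((singleFunctor A 0).obj M')⟦n⟧))
    (Q : ObjectProperty B) [WSerre.IsWeakSerre Q] (hess : ∀ N, Q N → ∃ M, P M ∧ Nonempty (F.obj M ≅ N))
    {X : DerivedCategory B} (hX : WSerre.cohInBdd Q X) :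
    ∃ K, WSerre.cohInBdd P K ∧ Nonempty (F.mapDerivedCategory.obj K ≅ X) := by
  let L := F.mapDerivedCategory
  obtain ⟨hX, ⟨a, ha⟩, ⟨c, hc⟩⟩ := hX
  refine devissage Q (fun X => ∃ K, WSerre.cohInBdd P K ∧ Nonempty (L.obj K ≅ X))
    (fun e ⟨K, hK, ⟨i⟩⟩ => ⟨K, hK, ⟨i ≪≫ e⟩⟩) (fun T hT => ?_) (fun m N hN => ?_) X a c ha hc hX
  · rintro ⟨K₁, hK₁, ⟨e₁⟩⟩ ⟨K₃, hK₃, ⟨e₃⟩⟩
    obtain ⟨δ, hδ⟩ := (FF_bdd F P h2 hK₃ (cohInBdd_shift P 1 hK₁)).2
      (e₃.hom ≫ T.mor₃ ≫ (e₁.inv)⟦(1 : ℤ)⟧' ≫ (L.commShiftIso (1 : ℤ)).inv.app K₁)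
    dsimp only at hδ
    obtain ⟨K₂, f, g, hK⟩ := distinguished_cocone_triangle₂ δ
    have hL := L.map_distinguished _ hK
    have hcomm : (L.mapTriangle.obj (Triangle.mk f g δ)).mor₃ ≫ (shiftFunctor _ (1 : ℤ)).map e₁.hom =
        e₃.hom ≫ T.mor₃ := by
      exact comm_aux (S := shiftFunctor _ (1 : ℤ)) e₁ ((L.commShiftIso (1 : ℤ)).app K₁) (e₃.hom ≫ T.mor₃) (L.map δ) (hδ.trans (Category.assoc _ _ _).symm)
    obtain ⟨φ, hφ₁, hφ₂⟩ := complete_distinguished_triangle_morphism₂ _ T hL hT e₁.hom e₃.hom hcomm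
    let ψ : L.mapTriangle.obj (Triangle.mk f g δ) ⟶ T :=
      { hom₁ := e₁.hom, hom₂ := φ, hom₃ := e₃.hom, comm₁ := hφ₁, comm₂ := hφ₂, comm₃ := hcomm }
    have hφ : IsIso ψ.hom₂ := isIso₂_of_isIso₁₃ ψ hL hT (Iso.isIso_hom e₁) (Iso.isIso_hom e₃)
    refine ⟨K₂, ⟨cohIn_obj₂ P hK hK₁.1 hK₃.1, ?_⟩, ⟨@asIso _ _ _ _ φ hφ⟩⟩
    exact ((TStructure.t : Triangulated.TStructure (DerivedCategory A)).bounded).ext_of_isTriangulatedClosed₂
      _ hK hK₁.2 hK₃.2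
  · obtain ⟨M, hM, ⟨e⟩⟩ := hess N hN
    exact ⟨(singleFunctor A m).obj M, ⟨cohIn_single P hM m, ⟨m, inferInstance⟩, ⟨m, inferInstance⟩⟩,
      ⟨(F.mapDerivedCategorySingleFunctor m).app M ≪≫ (singleFunctor B m).mapIso e⟩⟩

end Groth.Agent.DerAdj
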