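import Groth.Agent.DerAdj.Basic
import Groth.Agent.KInjRes.Basic
import Groth.Agent.KInjRes.DerivedCat

/-!
`D(P) ≅ D_P(C)` for a coreflective weak Serre subcategory `P` of a Grothendieck abelian category such
that the counit is a quasi-isomorphism on complexes of injectives with cohomology in `P`.
-/

universe w w' v v' u u'

open CategoryTheory Limits Pretriangulated DerivedCategory Groth.Agent.KInjRes
open scoped ZeroObject

namespace Groth.Agent.DerAdj

section counit

variable {C : Type*} [Category C] {D : Type*} [Category D] {C' : Type*} [Category C'] {D' : Type*} [Category D']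
  {L : C ⥤ D} {W : MorphismProperty C} [L.IsLocalization W]
  {G : C' ⥤ C} {P : C ⥤ C'} (adj : G ⊣ P) {L' : C' ⥤ D'} (W' : MorphismProperty C') [L'.IsLocalization W']

include adj W' in
theorem exists_adjunction_counit_app {G' : D' ⥤ D} (e : L' ⋙ G' ≅ G ⋙ L) {P' : D ⥤ D'}
    (β : P ⋙ L' ⟶ L ⋙ P') [P'.IsRightDerivedFunctor β W]
    (hI : ∀ Y : D, ∃ I : C, DerivableAt L (P ⋙ L') I ∧ Nonempty (L.obj I ≅ Y)) :
    ∃ a : G' ⊣ P', ∀ I, DerivableAt L (P ⋙ L') I → IsIso (L.map (adj.counit.app I)) →
      IsIso (a.counit.app (L.obj I)) := by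
  haveI : G'.IsLeftDerivedFunctor e.hom W' := Functor.isLeftDerivedFunctor_of_inverts W' G' e
  haveI : (G' ⋙ P').IsLeftDerivedFunctor ((Functor.associator _ _ _).inv ≫ Functor.whiskerRight e.hom P') W' :=
    Functor.isLeftDerivedFunctor_of_inverts W' (G' ⋙ P')
      ((Functor.associator _ _ _).symm ≪≫ Functor.isoWhiskerRight e P')
  haveI : (P' ⋙ G').IsRightDerivedFunctor (Functor.whiskerRight β G' ≫ (Functor.associator _ _ _).hom) W := by
    refine isRightDerived_of_isIso_app _ _ fun Y => ?_
    obtain ⟨I, h, hiso⟩ := hI Y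
    refine ⟨I, h.surj, ?_, hiso⟩
    haveI := isIso_app_of_derivable (W := W) hI P' β h
    simp only [NatTrans.comp_app, Functor.whiskerRight_app, Functor.associator_hom_app]
    infer_instance
  refine ⟨adj.derived W' W e.hom β, fun I h hc => ?_⟩
  haveI := isIso_app_of_derivable (W := W) hI P' β h
  haveI := hc
  haveI : IsIso (G'.map (β.app I) ≫ (adj.derivedε W e.hom β).app (L.obj I)) := by
    rw [adj.derivedε_fac_app W e.hom β I]; infer_instance
  exact IsIso.of_isIso_comp_left (G'.map (β.app I)) ((adj.derivedε W e.hom β).app (L.obj I))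

end counit

variable {C : Type u} [Category.{v} C] [Abelian C] [IsGrothendieckAbelian.{v} C] [HasDerivedCategory.{w} C]
  (P : ObjectProperty C) [WSerre.IsWeakSerre P] [HasDerivedCategory.{w'} P.FullSubcategory]

theorem isZero_of_map {X : DerivedCategory P.FullSubcategory} (h : IsZero (P.ι.mapDerivedCategory.obj X)) :
    IsZero X := by
  haveI : IsIso (0 : X ⟶ 0) := (DerivedCategory.isIso_iff _ _).2 fun i => by
    have h1 : IsZero ((homologyFunctor P.FullSubcategory i).obj X) := by
      rw [IsZero.iff_id_eq_zero]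
      exact P.ι.map_injective ((((homologyFunctor C i).map_isZero h).of_iso
        (homologyMapIso P.ι X i).symm).eq_of_src _ _)
    exact ⟨0, h1.eq_of_src _ _, ((homologyFunctor _ i).map_isZero (isZero_zero _)).eq_of_src _ _⟩
  exact IsZero.of_iso (isZero_zero _) (asIso (0 : X ⟶ 0))

theorem toDerived_equiv_of_coreflective (R : C ⥤ P.FullSubcategory) [R.Additive] (adj : P.ι ⊣ R)
    (hI : ∀ I : CochainComplex C ℤ, (∀ n, Injective (I.X n)) → (∀ i, P (I.homology i)) →
      QuasiIso ((mapHCAdj adj (ComplexShape.up ℤ)).counit.app I)) :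
    (WSerre.toDerived P).Full ∧ (WSerre.toDerived P).Faithful ∧
      ∀ K : DerivedCategory C, WSerre.cohIn P K ↔ (WSerre.toDerived P).essImage K := by
  let hres : ∀ K : CochainComplex C ℤ, ∃ (I : CochainComplex C ℤ) (f : K ⟶ I), I.IsKInjective ∧ QuasiIso f :=
    fun K => by
      obtain ⟨I, f, h1, h2, -⟩ := exists_kInjective_resolution K
      exact ⟨I, f, h1, h2⟩
  let G := R.mapHomotopyCategory (ComplexShape.up ℤ) ⋙ DerivedCategory.Qh (C := P.FullSubcategory)
  haveI := hasPointwiseRightDerived (W := HomotopyCategory.quasiIso C (ComplexShape.up ℤ))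
    (exists_derivable_Qh hres G)
  obtain ⟨a, ha⟩ := exists_adjunction_counit_app (mapKAdj adj (ComplexShape.up ℤ))
    (HomotopyCategory.quasiIso P.FullSubcategory (ComplexShape.up ℤ))
    (L' := DerivedCategory.Qh) (W := HomotopyCategory.quasiIso C (ComplexShape.up ℤ))
    P.ι.mapDerivedCategoryFactorsh
    (G.totalRightDerivedUnit DerivedCategory.Qh (HomotopyCategory.quasiIso C (ComplexShape.up ℤ)))
    (exists_derivable_Qh hres G)
  let LF := P.ι.mapDerivedCategory
  have hmap : ∀ M, WSerre.cohIn P (LF.obj M) := fun M i =>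
    P.prop_of_iso (homologyMapIso P.ι M i).symm ((homologyFunctor _ i).obj M).property
  have hc : ∀ Y, WSerre.cohIn P Y → IsIso (a.counit.app Y) := fun Y hY => by
    obtain ⟨I, f, h1, h2, -, h4⟩ := exists_kInjective_resolution (Q.objPreimage Y)
    haveI := h1
    haveI := h2
    haveI : IsIso (Q.map f) := inferInstance
    let e : Qh.obj ((HomotopyCategory.quotient C (ComplexShape.up ℤ)).obj I) ≅ Y :=
      (quotientCompQhIso C).app I ≪≫ (asIso (Q.map f)).symm ≪≫ Q.objObjPreimageIso Y
    rw [← NatTrans.isIso_app_iff_of_iso _ e]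
    apply ha _ (derivableAt_Qh G I)
    haveI := hI I h4 fun i => P.prop_of_iso ((homologyFunctorFactors C i).app I)
      (cohIn_of_iso P ((quotientCompQhIso C).app I).symm.symm (cohIn_of_iso P e.symm hY) i)
    haveI : IsIso (Q.map ((mapHCAdj adj (ComplexShape.up ℤ)).counit.app I)) := inferInstance
    exact (NatIso.isIso_map_iff (quotientCompQhIso C) ((mapHCAdj adj (ComplexShape.up ℤ)).counit.app I)).2 this
  haveI : ∀ M, IsIso (a.unit.app M) := fun M => by
    haveI := hc _ (hmap M)
    haveI : IsIso (LF.map (a.unit.app M)) :=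
      @IsIso.of_isIso_fac_right _ _ _ _ _ _ _ _ (hc _ (hmap M)) (IsIso.id _) (a.left_triangle_components M)
    obtain ⟨Z, g, h, hT⟩ := distinguished_cocone_triangle (a.unit.app M)
    have hZ : IsZero Z := isZero_of_map P
      ((Triangle.isZero₃_iff_isIso₁ _ (LF.map_distinguished _ hT)).2
        (show IsIso (LF.map (a.unit.app M)) from inferInstance))
    exact (Triangle.isZero₃_iff_isIso₁ _ hT).1 hZ
  haveI : IsIso a.unit := NatIso.isIso_of_isIso_app _
  refine ⟨a.fullyFaithfulLOfIsIsoUnit.full, a.fullyFaithfulLOfIsIsoUnit.faithful, fun K => ⟨fun h => ?_, ?_⟩⟩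
  · haveI := hc K h
    exact ⟨_, ⟨asIso (a.counit.app K)⟩⟩
  · rintro ⟨M, ⟨e⟩⟩
    exact cohIn_of_iso P e (hmap M)

end Groth.Agent.DerAdj
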